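import Mathlib.Algebra.Field.Basic
import Mathlib.Data.Fintype.OfMap
import Mathlib.Data.Fintype.Basic
import Mathlib.Data.Fintype.Card
import Mathlib.Tactic.DeriveFintype

/-!
The field of eight elements with computable operations.
-/

set_option autoImplicit false

namespace CfsgLib.Recog.Spec3D4

/-- The field of eight elements: polynomials modulo `x³ + x + 1`, coded by their bits. -/
structure OField where
  /-- the code of an element -/
  val : Fin 8
  deriving DecidableEq

namespace OField

instance instFintype : Fintype OField :=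
  Fintype.ofEquiv (Fin 8) ⟨OField.mk, OField.val, fun _ => rfl, fun _ => rfl⟩

/-- sum of codes -/
def oadd (a b : Fin 8) : Fin 8 := ⟨(a.val ^^^ b.val) % 8, Nat.mod_lt _ (Nat.succ_pos 7)⟩

/-- product of codes -/
def omul (a b : Fin 8) : Fin 8 :=
  ⟨(2821848294356612419217921029917578219971947684264937521152 >>> (3 * (8 * a.val + b.val))) % 8,
    Nat.mod_lt _ (Nat.succ_pos 7)⟩

/-- inverse of a code -/
def oinv (a : Fin 8) : Fin 8 := ⟨(9272648 >>> (3 * a.val)) % 8, Nat.mod_lt _ (Nat.succ_pos 7)⟩

instance : Zero OField := ⟨⟨⟨0, Nat.succ_pos 7⟩⟩⟩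
instance : One OField := ⟨⟨⟨1, Nat.succ_lt_succ (Nat.succ_pos 6)⟩⟩⟩
instance : Add OField := ⟨fun a b => ⟨oadd a.val b.val⟩⟩
instance : Mul OField := ⟨fun a b => ⟨omul a.val b.val⟩⟩
instance : Neg OField := ⟨fun a => a⟩
instance : Inv OField := ⟨fun a => ⟨oinv a.val⟩⟩

theorem tables_two : ∀ a : Fin 8, oadd ⟨0, by omega⟩ a = a ∧ oadd a ⟨0, by omega⟩ = a ∧
    omul ⟨1, by omega⟩ a = a ∧ omul a ⟨1, by omega⟩ = a ∧ omul ⟨0, by omega⟩ a = ⟨0, by omega⟩ ∧
    omul a ⟨0, by omega⟩ = ⟨0, by omega⟩ ∧ oadd a a = ⟨0, by omega⟩ ∧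
    (a.val = 0 ∨ omul a (oinv a) = ⟨1, by omega⟩) ∧
    ∀ b : Fin 8, oadd a b = oadd b a ∧ omul a b = omul b a := by decide +kernel

theorem tables_three : ∀ a b c : Fin 8, oadd (oadd a b) c = oadd a (oadd b c) ∧
    omul (omul a b) c = omul a (omul b c) ∧
    omul a (oadd b c) = oadd (omul a b) (omul a c) ∧
    omul (oadd a b) c = oadd (omul a c) (omul b c) := by decide +kernel

instance instCommRing : CommRing OField where
  add_assoc a b c := congrArg OField.mk (tables_three a.val b.val c.val).1
  zero_add a := congrArg OField.mk (tables_two a.val).1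
  add_zero a := congrArg OField.mk (tables_two a.val).2.1
  add_comm a b := congrArg OField.mk ((tables_two a.val).2.2.2.2.2.2.2.2 b.val).1
  mul_assoc a b c := congrArg OField.mk (tables_three a.val b.val c.val).2.1
  one_mul a := congrArg OField.mk (tables_two a.val).2.2.1
  mul_one a := congrArg OField.mk (tables_two a.val).2.2.2.1
  mul_comm a b := congrArg OField.mk ((tables_two a.val).2.2.2.2.2.2.2.2 b.val).2
  left_distrib a b c := congrArg OField.mk (tables_three a.val b.val c.val).2.2.1
  right_distrib a b c := congrArg OField.mk (tables_three a.val b.val c.val).2.2.2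
  zero_mul a := congrArg OField.mk (tables_two a.val).2.2.2.2.1
  mul_zero a := congrArg OField.mk (tables_two a.val).2.2.2.2.2.1
  neg_add_cancel a := congrArg OField.mk (tables_two a.val).2.2.2.2.2.2.1
  nsmul := nsmulRec
  zsmul := zsmulRec

instance instField : Field OField where
  exists_pair_ne := ⟨0, 1, fun h => absurd (congrArg (fun x : OField => x.val.val) h) Nat.zero_ne_one⟩
  mul_inv_cancel a ha := congrArg OField.mk
    ((tables_two a.val).2.2.2.2.2.2.2.1.resolve_left fun h => ha (congrArg OField.mk (Fin.ext h)))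
  inv_zero := rfl
  nnqsmul := _
  qsmul := _
  nnqsmul_def := fun _ _ => rfl
  qsmul_def := fun _ _ => rfl

theorem card_eq : Fintype.card OField = 8 := (Fintype.card_congr ⟨OField.val, OField.mk, fun _ => rfl, fun _ => rfl⟩).trans
  (Fintype.card_fin 8)

end OField

end CfsgLib.Recog.Spec3D4
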