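import Cfsg.Agent.Lib.Recog.Spec3D4.Rep

/-! The representation restricted to `³D₄(2)`: the product is invariant and the Dickson invariant is trivial. -/

set_option autoImplicit false
set_option maxHeartbeats 1000000
set_option maxRecDepth 100000

namespace CfsgLib.Recog.Spec3D4

open Matrix QuadraticMap CfsgLib.Geometry CfsgLib.Geometry.Oct CfsgLib.ChevIso Cfsg.Lie CfsgLib.Chev

variable {K : Type*} [Field K] [CharP K 2]

theorem twisted_le : twistedD4 K 2 ≤ chevD4.group K := by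
  rw [twistedD4, genSubgroup_eq stdD4.good, Subgroup.closure_le]
  rintro y ⟨w, -, rfl⟩
  exact Subgroup.list_prod_mem _ fun x hx => by
    obtain ⟨p, -, rfl⟩ := List.mem_map.1 hx
    exact xG_mem_group _ _ _

theorem xV_p2 (s : K) (v : V K) : (xV hS 14 s : V K ≃ₗ[K] V K) v = opP2 s v := by
  rw [xV_apply]
  apply ext8 <;> simp [VData.ent, vD4, triD4, opP2, bs, Pi.single_apply, CharTwo.neg_eq, CharTwo.sub_eq_add]

theorem xV_m2 (s : K) (v : V K) : (xV hS 9 s : V K ≃ₗ[K] V K) v = opM2 s v := by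
  rw [xV_apply]
  apply ext8 <;> simp [VData.ent, vD4, triD4, opM2, bs, Pi.single_apply, CharTwo.neg_eq, CharTwo.sub_eq_add]

theorem xV_p1 (s t u : K) (v : V K) :
    (xV hS 18 s : V K ≃ₗ[K] V K) ((xV hS 13 t : V K ≃ₗ[K] V K) ((xV hS 12 u : V K ≃ₗ[K] V K) v)) =
      opP1 s t u v := by
  rw [xV_apply, xV_apply, xV_apply]
  apply ext8 <;> simp [VData.ent, vD4, triD4, opP1, bs, Pi.single_apply, CharTwo.neg_eq, CharTwo.sub_eq_add] <;>
    ring

theorem xV_m1 (s t u : K) (v : V K) :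
    (xV hS 5 s : V K ≃ₗ[K] V K) ((xV hS 10 t : V K ≃ₗ[K] V K) ((xV hS 11 u : V K ≃ₗ[K] V K) v)) =
      opM1 s t u v := by
  rw [xV_apply, xV_apply, xV_apply]
  apply ext8 <;> simp [VData.ent, vD4, triD4, opM1, bs, Pi.single_apply, CharTwo.neg_eq, CharTwo.sub_eq_add] <;>
    ring

theorem frob_add (a b : K) (n : ℕ) : (a + b) ^ 2 ^ n = a ^ 2 ^ n + b ^ 2 ^ n := add_pow_char_pow ..

theorem pw2_p2 {s : K} (hs : s ^ 2 = s) (v : V K) : pw 2 (opP2 s v) = opP2 s (pw 2 v) := by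
  apply ext8 <;> simp [pw, opP2, CharTwo.add_sq, mul_pow, hs]

theorem pw2_m2 {s : K} (hs : s ^ 2 = s) (v : V K) : pw 2 (opM2 s v) = opM2 s (pw 2 v) := by
  apply ext8 <;> simp [pw, opM2, CharTwo.add_sq, mul_pow, hs]

theorem pw2_p1 (s t u : K) (v : V K) : pw 2 (opP1 s t u v) = opP1 (s ^ 2) (t ^ 2) (u ^ 2) (pw 2 v) := by
  apply ext8 <;> simp [pw, opP1, CharTwo.add_sq, mul_pow]

theorem pw2_m1 (s t u : K) (v : V K) : pw 2 (opM1 s t u v) = opM1 (s ^ 2) (t ^ 2) (u ^ 2) (pw 2 v) := by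
  apply ext8 <;> simp [pw, opM1, CharTwo.add_sq, mul_pow]

theorem pw_four (v : V K) : pw 4 v = pw 2 (pw 2 v) := by
  funext i; simp [pw, ← pow_mul]

theorem B_p2 {s : K} (hs : s ^ 2 = s) (x y : V K) : B (opP2 s x) (opP2 s y) = opP2 s (B x y) := by
  rw [B, pw_four, pw2_p2 hs, pw2_p2 hs, pw2_p2 hs, tmul_opP2, ← pw_four]; rfl

theorem B_m2 {s : K} (hs : s ^ 2 = s) (x y : V K) : B (opM2 s x) (opM2 s y) = opM2 s (B x y) := by
  rw [B, pw_four, pw2_m2 hs, pw2_m2 hs, pw2_m2 hs, tmul_opM2, ← pw_four]; rfl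

theorem B_p1 {s : K} (hs : ((s ^ 2) ^ 2) ^ 2 = s) (x y : V K) :
    B (opP1 s (s ^ 2) ((s ^ 2) ^ 2) x) (opP1 s (s ^ 2) ((s ^ 2) ^ 2) y) =
      opP1 s (s ^ 2) ((s ^ 2) ^ 2) (B x y) := by
  rw [B, pw_four, pw2_p1, pw2_p1, pw2_p1, hs, tmul_opP1, ← pw_four]; rfl

theorem B_m1 {s : K} (hs : ((s ^ 2) ^ 2) ^ 2 = s) (x y : V K) :
    B (opM1 s (s ^ 2) ((s ^ 2) ^ 2) x) (opM1 s (s ^ 2) ((s ^ 2) ^ 2) y) =
      opM1 s (s ^ 2) ((s ^ 2) ^ 2) (B x y) := by
  rw [B, pw_four, pw2_m1, pw2_m1, pw2_m1, hs, tmul_opM1, ← pw_four]; rfl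

/-- The representation. -/
noncomputable def rho : ↥(twistedD4 K 2) →* orth (Q K) :=
  (exists_phi (K := K)).choose.comp (Subgroup.inclusion twisted_le)

theorem rho_injective : Function.Injective (rho (K := K)) :=
  (exists_phi (K := K)).choose_spec.1.comp (Subgroup.inclusion_injective _)

/-- The action. -/
noncomputable def act (g : ↥(twistedD4 K 2)) : V K ≃ₗ[K] V K := ((rho g : orth (Q K)) : V K ≃ₗ[K] V K)

theorem act_mul (g h : ↥(twistedD4 K 2)) (v : V K) : act (g * h) v = act g (act h v) := by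
  simp [act]

theorem act_one (v : V K) : act (1 : ↥(twistedD4 K 2)) v = v := by simp [act]

theorem act_Q (g : ↥(twistedD4 K 2)) (v : V K) : Q K (act g v) = Q K v := (rho g).2 v

theorem rho_word {w : List (ℕ × K)} (hw : w ∈ d4Words K 2) (hlt : ∀ p ∈ w, p.1 < chevD4.nroots) :
    rho ⟨(w.map fun p : ℕ × K => xG stdD4.good p.1 p.2).prod, word_mem_gen stdD4.good hw⟩ =
      (w.map fun p => xV hS p.1 p.2).prod := by
  set φ := (exists_phi (K := K)).choose
  have hφ := (exists_phi (K := K)).choose_spec.2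
  have e : Subgroup.inclusion twisted_le
      (⟨(w.map fun p : ℕ × K => xG stdD4.good p.1 p.2).prod, word_mem_gen stdD4.good hw⟩ : twistedD4 K 2) =
      (w.map fun p => (⟨xG stdD4.good p.1 p.2, xG_mem_group _ _ _⟩ : chevD4.group K)).prod := by
    refine Subtype.ext ?_
    rw [Subgroup.coe_inclusion, SubmonoidClass.coe_list_prod, List.map_map]
    rfl
  rw [rho, MonoidHom.comp_apply, e, map_list_prod, List.map_map]
  congr 1
  refine List.map_congr_left fun p hp => ?_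
  exact hφ _ (hlt p hp) _ _

/-- The product is invariant. -/
theorem act_B [Fintype K] (hK : Fintype.card K = 8) (g : ↥(twistedD4 K 2)) (x y : V K) :
    B (act g x) (act g y) = act g (B x y) := by
  have h8 : ∀ s : K, ((s ^ 2) ^ 2) ^ 2 = s := fun s => by
    rw [← pow_mul, ← pow_mul, show 2 * (2 * 2) = Fintype.card K by rw [hK], FiniteField.pow_card]
  obtain ⟨g, hg⟩ := g
  revert x y
  have hle : twistedD4 K 2 = Subgroup.closure _ := genSubgroup_eq stdD4.good (d4Words K 2)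
  have hg' := hle.le hg
  revert hg
  induction hg' using Subgroup.closure_induction with
  | mem z hz =>
    intro hg x y
    obtain ⟨w, hw, rfl⟩ := hz
    rcases hw with ⟨t, ht, r, hr, rfl⟩ | ⟨t, rs, hrs, rfl⟩
    · have hlt : ∀ p ∈ [(r, t)], p.1 < chevD4.nroots := by
        have : ∀ r ∈ [d4p2, d4m2], r < chevD4.nroots := by decide +kernel
        intro p hp
        rw [List.mem_singleton.1 hp]
        exact this r hr
      have e : ∀ v, act (⟨_, hg⟩ : twistedD4 K 2) v = (xV hS r t : V K ≃ₗ[K] V K) v := fun v => by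
        rw [act, rho_word (Or.inl ⟨t, ht, r, hr, rfl⟩) hlt]; simp
      simp only [List.mem_cons, List.not_mem_nil, or_false] at hr
      rcases hr with rfl | rfl
      · rw [e, e, e]; simp only [d4p2, xV_p2]; exact B_p2 ht x y
      · rw [e, e, e]; simp only [d4m2, xV_m2]; exact B_m2 ht x y
    · have hlt : ∀ p ∈ [(rs.1, t), (rs.2.1, t ^ 2), (rs.2.2, t ^ 2 ^ 2)], p.1 < chevD4.nroots := by
        have : ∀ rs ∈ [(d4p1, d4p3, d4p4), (d4m1, d4m3, d4m4)],
            rs.1 < chevD4.nroots ∧ rs.2.1 < chevD4.nroots ∧ rs.2.2 < chevD4.nroots := by decide +kernel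
        obtain ⟨h1, h2, h3⟩ := this rs hrs
        intro p hp
        simp only [List.mem_cons, List.not_mem_nil, or_false] at hp
        rcases hp with rfl | rfl | rfl <;> assumption
      have e : ∀ v, act (⟨_, hg⟩ : twistedD4 K 2) v =
          (xV hS rs.1 t : V K ≃ₗ[K] V K) ((xV hS rs.2.1 (t ^ 2) : V K ≃ₗ[K] V K)
            ((xV hS rs.2.2 ((t ^ 2) ^ 2) : V K ≃ₗ[K] V K) v)) := fun v => by
        rw [act, rho_word (Or.inr ⟨t, rs, hrs, rfl⟩) hlt]
        simp [← pow_mul]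
      simp only [List.mem_cons, List.not_mem_nil, or_false] at hrs
      rcases hrs with rfl | rfl
      · rw [e, e, e]; simp only [d4p1, d4p3, d4p4, xV_p1]; exact B_p1 (h8 t) x y
      · rw [e, e, e]; simp only [d4m1, d4m3, d4m4, xV_m1]; exact B_m1 (h8 t) x y
  | one =>
    intro hg x y
    have : (⟨1, hg⟩ : twistedD4 K 2) = 1 := rfl
    rw [this]; simp [act_one]
  | mul a b ha hb iha ihb =>
    intro hg x y
    have ha' := hle.ge ha
    have hb' := hle.ge hb
    have : (⟨a * b, hg⟩ : twistedD4 K 2) = ⟨a, ha'⟩ * ⟨b, hb'⟩ := rfl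
    rw [this]
    simp only [act_mul]
    rw [iha ha', ihb hb']
  | inv a ha iha =>
    intro hg x y
    have ha' := hle.ge ha
    have : (⟨a⁻¹, hg⟩ : twistedD4 K 2) = (⟨a, ha'⟩ : twistedD4 K 2)⁻¹ := rfl
    rw [this]
    set A : twistedD4 K 2 := ⟨a, ha'⟩
    have hA : ∀ v, act A (act A⁻¹ v) = v := fun v => by rw [← act_mul, mul_inv_cancel, act_one]
    apply (act A).injective
    rw [hA, ← iha ha', hA, hA]

/-- The Dickson invariant of every element is trivial. -/
theorem act_parity [Fintype K] (hK : Fintype.card K = 8) (g : ↥(twistedD4 K 2)) :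
    Even (Module.finrank K (movSpace (act g))) := by
  let δ := (dicksonHom (evenHyp8 (F := K)).nondeg (evenHyp8 (F := K)).reflGroup).comp (rho (K := K))
  have hperf : commutator ↥(twistedD4 K 2) = ⊤ :=
    Cfsg.Agent.S1108.result (q := 2) Nat.prime_two.isPrimePow (by rw [hK]; norm_num)
  have h : δ g = 1 := Abelianization.commutator_subset_ker δ (hperf ▸ Subgroup.mem_top g)
  have h2 : dickson (act g) = 0 := by
    have := h
    simp only [δ, MonoidHom.comp_apply, dicksonHom, MonoidHom.mk'_apply, dicksonMul] at this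
    exact Multiplicative.ofAdd.injective this
  rw [dickson] at h2
  exact (ZMod.natCast_eq_zero_iff_even).1 h2

end CfsgLib.Recog.Spec3D4
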