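import Mathlib

/-! Norms of group elements in a module of characteristic two. -/

set_option autoImplicit false

namespace CfsgLib.Recog.Spec3D4

variable {R : Type*} [Ring R]

/-- The norm of `x` up to `n`. -/
def nrm (x : R) (n : ℕ) : R := ∑ i ∈ Finset.range n, x ^ i

theorem nrm_mul (x : R) (A m : ℕ) : nrm x (A * m) = nrm x A * nrm (x ^ A) m := by
  induction m with
  | zero => simp [nrm]
  | succ m ih =>
    have h1 : nrm (x ^ A) (m + 1) = nrm (x ^ A) m + (x ^ A) ^ m := Finset.sum_range_succ _ _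
    have h2 : nrm x (A * (m + 1)) = nrm x (A * m) + ∑ i ∈ Finset.range A, x ^ (A * m + i) := by
      rw [nrm, Nat.mul_succ, Finset.sum_range_add]; rfl
    rw [h1, h2, ih, mul_add, ← pow_mul]
    congr 1
    rw [nrm, Finset.sum_mul]
    exact Finset.sum_congr rfl fun i _ => by rw [← pow_add, add_comm]

theorem sub_one_sq (h2 : ∀ y : R, y + y = 0) (y : R) : (y - 1) * (y - 1) = y * y - 1 := by
  have hneg : ∀ z : R, -z = z := fun z => neg_eq_of_add_eq_zero_left (h2 z)
  have := h2 y
  rw [sub_mul, mul_sub, mul_one, one_mul, sub_eq_add_neg (y * y - y), neg_sub]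
  rw [show y * y - y + (1 - y) = y * y + 1 - (y + y) by abel, this, sub_zero, sub_eq_add_neg, hneg]

theorem sub_one_pow_two_pow (h2 : ∀ y : R, y + y = 0) (x : R) (a : ℕ) :
    (x - 1) ^ 2 ^ a = x ^ 2 ^ a - 1 := by
  induction a with
  | zero => simp
  | succ a ih => rw [pow_succ 2, pow_mul, ih, sq, sub_one_sq h2, pow_mul, sq]

theorem nrm_two_pow (h2 : ∀ y : R, y + y = 0) (x : R) (a : ℕ) :
    nrm x (2 ^ a) = (x - 1) ^ (2 ^ a - 1) := by
  induction a with
  | zero => simp [nrm]
  | succ a ih =>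
    have hneg : ∀ z : R, -z = z := fun z => neg_eq_of_add_eq_zero_left (h2 z)
    rw [pow_succ 2, nrm_mul, ih, show nrm (x ^ 2 ^ a) 2 = x ^ 2 ^ a - 1 by
      rw [sub_eq_add_neg, hneg]; simp [nrm, Finset.sum_range_succ, add_comm],
      ← sub_one_pow_two_pow h2, ← pow_add]
    congr 1
    have : 1 ≤ 2 ^ a := Nat.one_le_two_pow
    omega

theorem mul_nrm_of_pow_eq_one {s : R} {m : ℕ} (hs : s ^ m = 1) : s * nrm s m = nrm s m := by
  have h := mul_geom_sum s m
  rw [hs, sub_self, sub_mul, one_mul, sub_eq_zero] at h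
  exact h

theorem nrm_mul_self {s : R} {m : ℕ} (hs : s ^ m = 1) (hm : Odd m) (h2 : ∀ y : R, y + y = 0) :
    nrm s m * nrm s m = nrm s m := by
  have h : ∀ i, s ^ i * nrm s m = nrm s m := fun i => by
    induction i with
    | zero => simp
    | succ i ih => rw [pow_succ, mul_assoc, mul_nrm_of_pow_eq_one hs, ih]
  conv_lhs => rw [nrm, Finset.sum_mul, ← nrm]
  rw [Finset.sum_congr rfl fun i _ => h i, Finset.sum_const, Finset.card_range]
  obtain ⟨k, rfl⟩ := hm
  rw [add_smul, one_smul, mul_smul, two_nsmul, h2, zero_add]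

theorem Commute.nrm_right {x s : R} (h : Commute x s) (m : ℕ) : Commute x (nrm s m) :=
  Commute.sum_right _ _ _ fun i _ => h.pow_right i

section Nilpotent

variable {K : Type*} [Field K] {W : Type*} [AddCommGroup W] [Module K W] [FiniteDimensional K W]

open Module

/-- Iterates of a nilpotent map are independent. -/
theorem linearIndependent_pow {X : Module.End K W} {A : ℕ} {v : W} (h0 : (X ^ A) v = 0)
    (h1 : (X ^ (A - 1)) v ≠ 0) : LinearIndependent K fun i : Fin A => (X ^ (i : ℕ)) v := by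
  classical
  rw [Fintype.linearIndependent_iff]
  intro c hc
  by_contra hne
  push Not at hne
  obtain ⟨i, hi⟩ := hne
  obtain ⟨j, hj, hmin⟩ := Finset.exists_min_image (Finset.univ.filter fun i : Fin A => c i ≠ 0)
    (fun i : Fin A => (i : ℕ)) ⟨i, by simp [hi]⟩
  have hj' : c j ≠ 0 := (Finset.mem_filter.1 hj).2
  have h := congrArg (⇑(X ^ (A - 1 - (j : ℕ)))) hc
  rw [map_sum, map_zero, Finset.sum_eq_single j] at h
  · rw [map_smul, ← Module.End.mul_apply, ← pow_add, Nat.sub_add_cancel (by omega)] at h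
    exact h1 ((smul_eq_zero.1 h).resolve_left hj')
  · intro b _ hb
    rw [map_smul, ← Module.End.mul_apply, ← pow_add]
    by_cases hcb : c b = 0
    · rw [hcb, zero_smul]
    · have h2 := hmin b (Finset.mem_filter.2 ⟨Finset.mem_univ _, hcb⟩)
      have h3 : (b : ℕ) ≠ (j : ℕ) := fun e => hb (Fin.ext e)
      have h4 : A ≤ A - 1 - (j : ℕ) + (b : ℕ) := by omega
      obtain ⟨k, hk⟩ := Nat.exists_eq_add_of_le h4
      rw [hk, add_comm, pow_add, Module.End.mul_apply, h0, map_zero, smul_zero]
  · exact fun h => absurd (Finset.mem_univ _) h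

/-- A map nilpotent of index `A` on an invariant space of dimension at least `A`, of rank `A - 1` in case of equality. -/
theorem nilpotent_rank {X : Module.End K W} {U : Submodule K W} {A : ℕ} (hA : 1 ≤ A)
    (hU : ∀ u ∈ U, X u ∈ U) {v : W} (hv : v ∈ U) (h0 : ∀ u ∈ U, (X ^ A) u = 0)
    (h1 : (X ^ (A - 1)) v ≠ 0) :
    A ≤ finrank K U ∧ (finrank K U = A → finrank K (U.map X) = A - 1) := by
  have hmem : ∀ i, (X ^ i) v ∈ U := fun i => by
    induction i with
    | zero => simpa using hv
    | succ i ih => rw [pow_succ', Module.End.mul_apply]; exact hU _ ih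
  have hli := linearIndependent_pow (h0 v hv) h1
  have hle : A ≤ finrank K U := by
    have h := Submodule.finrank_mono (show Submodule.span K (Set.range fun i : Fin A => (X ^ (i : ℕ)) v) ≤ U from
      Submodule.span_le.2 (by rintro _ ⟨i, rfl⟩; exact hmem i))
    rwa [finrank_span_eq_card hli, Fintype.card_fin] at h
  refine ⟨hle, fun he => ?_⟩
  have hup : finrank K (U.map X) ≤ A - 1 := by
    have hlt : U.map X < U := by
      refine lt_of_le_of_ne (Submodule.map_le_iff_le_comap.2 hU) fun e => ?_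
      obtain ⟨w, hw, hwv⟩ := (e.symm ▸ hv : v ∈ U.map X)
      apply h1
      rw [← hwv, ← Module.End.mul_apply, ← pow_succ, Nat.sub_add_cancel hA]
      exact h0 w hw
    have := Submodule.finrank_lt_finrank_of_lt hlt
    omega
  have hlow : A - 1 ≤ finrank K (U.map X) := by
    have hli' : LinearIndependent K fun i : Fin (A - 1) => (X ^ ((i : ℕ) + 1)) v :=
      hli.comp (fun i : Fin (A - 1) => (⟨(i : ℕ) + 1, by omega⟩ : Fin A)) fun i j e => Fin.ext (by
        simpa using congrArg Fin.val e)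
    have h := Submodule.finrank_mono (show Submodule.span K
      (Set.range fun i : Fin (A - 1) => (X ^ ((i : ℕ) + 1)) v) ≤ U.map X from
      Submodule.span_le.2 (by
        rintro _ ⟨i, rfl⟩
        refine ⟨(X ^ (i : ℕ)) v, hmem _, ?_⟩
        show X ((X ^ (i : ℕ)) v) = (X ^ ((i : ℕ) + 1)) v
        rw [pow_succ', Module.End.mul_apply]))
    rwa [finrank_span_eq_card hli', Fintype.card_fin] at h
  omega

end Nilpotent

end CfsgLib.Recog.Spec3D4
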