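import Cfsg.Agent.Lib.Recog.Spec3D4.Prod
import Mathlib

/-! A matrix commuting with a semilinear bijection and preserving the form: the characteristic polynomial. -/

set_option autoImplicit false
set_option maxHeartbeats 1000000

namespace CfsgLib.Recog.Spec3D4

open Matrix Polynomial

variable {R : Type*} [Ring R]

/-- The value of a bit vector. -/
def bev (s : R) (v : List Bool) : R := (v.zipIdx.map fun p => if p.1 then s ^ p.2 else 0).sum

/-- The step of the recursion. -/
def bstep (c v : List Bool) : List Bool :=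
  (List.range 8).map fun i =>
    xor (if i = 0 then false else v.getD (i - 1) false) (v.getD 7 false && c.getD i false)

theorem bev_eight (s : R) (a0 a1 a2 a3 a4 a5 a6 a7 : Bool) :
    bev s [a0, a1, a2, a3, a4, a5, a6, a7] =
      (if a0 then 1 else 0) + (if a1 then s else 0) + (if a2 then s ^ 2 else 0) + (if a3 then s ^ 3 else 0) +
      (if a4 then s ^ 4 else 0) + (if a5 then s ^ 5 else 0) + (if a6 then s ^ 6 else 0) +
      (if a7 then s ^ 7 else 0) := by
  simp [bev, List.zipIdx, add_assoc]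

theorem ite_xor (h2 : ∀ x : R, x + x = 0) (a b : Bool) (y : R) :
    (if xor a b then y else 0) = (if a then y else 0) + (if b then y else 0) := by
  cases a <;> cases b <;> simp [h2]

theorem bev_step (h2 : ∀ x : R, x + x = 0) (s : R) (c0 c1 c2 c3 c4 c5 c6 c7 : Bool)
    (hc : s ^ 8 = bev s [c0, c1, c2, c3, c4, c5, c6, c7]) (a0 a1 a2 a3 a4 a5 a6 a7 : Bool) :
    s * bev s [a0, a1, a2, a3, a4, a5, a6, a7] =
      bev s (bstep [c0, c1, c2, c3, c4, c5, c6, c7] [a0, a1, a2, a3, a4, a5, a6, a7]) := by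
  have hs : ∀ (b : Bool) (k : ℕ), s * (if b then s ^ k else 0) = if b then s ^ (k + 1) else 0 := by
    intro b k; cases b <;> simp [pow_succ']
  have e : bstep [c0, c1, c2, c3, c4, c5, c6, c7] [a0, a1, a2, a3, a4, a5, a6, a7] =
      [xor false (a7 && c0), xor a0 (a7 && c1), xor a1 (a7 && c2), xor a2 (a7 && c3), xor a3 (a7 && c4),
        xor a4 (a7 && c5), xor a5 (a7 && c6), xor a6 (a7 && c7)] := rfl
  rw [e, bev_eight, bev_eight]
  simp only [ite_xor h2]
  have h1 : (if a7 then s ^ 8 else 0) = (if a7 && c0 then 1 else 0) + (if a7 && c1 then s else 0) +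
      (if a7 && c2 then s ^ 2 else 0) + (if a7 && c3 then s ^ 3 else 0) + (if a7 && c4 then s ^ 4 else 0) +
      (if a7 && c5 then s ^ 5 else 0) + (if a7 && c6 then s ^ 6 else 0) + (if a7 && c7 then s ^ 7 else 0) := by
    cases a7 <;> simp [hc, bev_eight]
  have g0 : s * (if a0 then (1 : R) else 0) = if a0 then s else 0 := by cases a0 <;> simp
  have g1 : s * (if a1 then s else 0) = if a1 then s ^ 2 else 0 := by cases a1 <;> simp [sq]
  rw [mul_add, mul_add, mul_add, mul_add, mul_add, mul_add, mul_add, g0, g1, hs, hs, hs, hs, hs, hs, h1]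
  simp only [Bool.false_eq_true, if_false, zero_add]
  abel

/-- The iterates of the recursion. -/
def biter (c : List Bool) : ℕ → List Bool
  | 0 => [true, false, false, false, false, false, false, false]
  | n + 1 => bstep c (biter c n)

theorem pow_eq_bev (h2 : ∀ x : R, x + x = 0) (s : R) (c0 c1 c2 c3 c4 c5 c6 c7 : Bool)
    (hc : s ^ 8 = bev s [c0, c1, c2, c3, c4, c5, c6, c7]) (n : ℕ) :
    s ^ n = bev s (biter [c0, c1, c2, c3, c4, c5, c6, c7] n) := by
  induction n with
  | zero => simp [biter, bev_eight]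
  | succ n ih =>
    obtain ⟨a0, a1, a2, a3, a4, a5, a6, a7, e⟩ : ∃ a0 a1 a2 a3 a4 a5 a6 a7 : Bool,
        biter [c0, c1, c2, c3, c4, c5, c6, c7] n = [a0, a1, a2, a3, a4, a5, a6, a7] := by
      cases n with
      | zero => exact ⟨_, _, _, _, _, _, _, _, rfl⟩
      | succ k => exact ⟨_, _, _, _, _, _, _, _, rfl⟩
    rw [pow_succ', ih, biter, e, bev_step h2 s c0 c1 c2 c3 c4 c5 c6 c7 hc]

section Cases

variable {K : Type*} [Field K] [CharP K 2] [Fintype K] {n : Type*} [Fintype n] [DecidableEq n]

theorem coeff_bit (hK : Fintype.card K = 8) {c : K} (h : c ^ 4 = c) : c = 0 ∨ c = 1 := by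
  have h8 : c ^ 8 = c := hK ▸ FiniteField.pow_card c
  have h2 : c * (c - 1) = 0 := by
    have : c ^ 2 = c := by
      calc c ^ 2 = (c ^ 4) ^ 2 := by rw [h]
        _ = c ^ 8 := by rw [← pow_mul]
        _ = c := h8
    linear_combination this
  rcases mul_eq_zero.1 h2 with h | h
  · exact Or.inl h
  · exact Or.inr (sub_eq_zero.1 h)

/-- The possible cases. -/
theorem charpoly_cases (hK : Fintype.card K = 8) {M P J : Matrix n n K} (hn : Fintype.card n = 8)
    (hP : IsUnit P) (hcomm : P * M.map (fun x => x ^ 4) = M * P)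
    (hJ : IsUnit J) (hisom : Mᵀ * J * M = J) (h1 : M.charpoly.IsRoot 1) :
    M ^ 120 = 1 ∨
      (M ^ 56 = 1 ∧ M.charpoly.rootMultiplicity 1 ≤ 2) ∨
      (M ^ 72 = 1 ∧ M.charpoly.rootMultiplicity 1 ≤ 2 ∧ (M - 1) ^ 2 * (M ^ 6 + M ^ 3 + 1) = 0) := by
  set f := M.charpoly with hf
  have hbit : ∀ i, f.coeff i = 0 ∨ f.coeff i = 1 := by
    have hfr : M.map (fun x => x ^ 4) = M.map (iterateFrobenius K 2 2) := by
      ext i j; simp [iterateFrobenius_def]
    have h : f.map (iterateFrobenius K 2 2) = f := by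
      rw [hf, ← Matrix.charpoly_map, ← hfr]
      conv_rhs => rw [← Matrix.charpoly_units_conj' hP.unit M]
      congr 1
      rw [IsUnit.unit_spec, mul_assoc, ← hcomm, ← mul_assoc,
        Matrix.nonsing_inv_mul _ ((Matrix.isUnit_iff_isUnit_det P).1 hP), one_mul]
    intro i
    refine coeff_bit hK ?_
    have := congrArg (fun q => Polynomial.coeff q i) h
    simpa [iterateFrobenius_def] using this
  have hdet : IsUnit M.det := by
    have h := congrArg Matrix.det hisom
    rw [det_mul, det_mul, det_transpose] at h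
    have hJd : J.det ≠ 0 := ((Matrix.isUnit_iff_isUnit_det J).1 hJ).ne_zero
    refine Ne.isUnit fun e => hJd ?_
    rw [← h, e]; ring
  have hdeg : f.natDegree = 8 := by rw [hf, Matrix.charpoly_natDegree_eq_dim, hn]
  have hsym : ∀ i ≤ 8, f.coeff i = M.det⁻¹ * f.coeff (8 - i) := by
    intro i hi
    have hMi : M⁻¹.charpoly = f := by
      have e : M⁻¹ = J⁻¹ * Mᵀ * J := by
        refine Matrix.inv_eq_left_inv ?_
        rw [mul_assoc, mul_assoc, ← mul_assoc Mᵀ, hisom,
          Matrix.nonsing_inv_mul _ ((Matrix.isUnit_iff_isUnit_det J).1 hJ)]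
      rw [e, ← hJ.unit_spec, Matrix.charpoly_units_conj', Matrix.charpoly_transpose]
    have h := Matrix.charpoly_inv M ((Matrix.isUnit_iff_isUnit_det M).2 hdet)
    rw [hMi, ← Matrix.reverse_charpoly, hn, ← hf, show ((-1 : K[X]) ^ 8) = 1 by norm_num, one_mul] at h
    conv_lhs => rw [h]
    rw [Polynomial.coeff_C_mul, Ring.inverse_eq_inv, Polynomial.coeff_reverse, hdeg,
      Polynomial.revAt_le hi]
  have h8 : f.coeff 8 = 1 := by
    have := (Matrix.charpoly_monic M).coeff_natDegree
    rwa [← hf, hdeg] at this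
  set u := M.det⁻¹
  have h0 : f.coeff 0 = 1 := by
    rcases hbit 0 with h | h
    · exfalso
      have := hsym 8 le_rfl
      rw [h8, Nat.sub_self, h, mul_zero] at this
      exact one_ne_zero this
    · exact h
  have hu : u = 1 := by
    have := hsym 0 (Nat.zero_le _)
    rw [h0, Nat.sub_zero, h8, mul_one] at this
    exact this.symm
  simp only [hu, one_mul] at hsym
  have s1 := hsym 1 (by norm_num)
  have s2 := hsym 2 (by norm_num)
  have s3 := hsym 3 (by norm_num)
  norm_num at s1 s2 s3
  have hexp : f = C (f.coeff 0) + C (f.coeff 1) * X + C (f.coeff 2) * X ^ 2 + C (f.coeff 3) * X ^ 3 +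
      C (f.coeff 4) * X ^ 4 + C (f.coeff 5) * X ^ 5 + C (f.coeff 6) * X ^ 6 + C (f.coeff 7) * X ^ 7 +
      C (f.coeff 8) * X ^ 8 := by
    conv_lhs => rw [f.as_sum_range_C_mul_X_pow, hdeg]
    simp only [Finset.sum_range_succ, Finset.sum_range_zero, zero_add, pow_zero, mul_one, pow_one]
  have h4 : f.coeff 4 = 0 := by
    have h : f.eval 1 = 0 := h1
    rw [hexp] at h
    simp only [eval_add, eval_mul, eval_C, eval_X, eval_pow, one_pow, mul_one, h0, h8, ← s1, ← s2, ← s3] at h
    linear_combination h - (1 + f.coeff 1 + f.coeff 2 + f.coeff 3) * (CharTwo.two_eq_zero (R := K))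
  have hM : f.aeval M = 0 := Matrix.aeval_self_charpoly M
  have h2m : ∀ x : Matrix n n K, x + x = 0 := fun x => by ext i j; simp [CharTwo.add_self_eq_zero]
  have h2p : (2 : K[X]) = 0 := CharTwo.two_eq_zero
  have key : ∀ a b c : Bool, f.coeff 1 = (if a then 1 else 0) → f.coeff 2 = (if b then 1 else 0) →
      f.coeff 3 = (if c then 1 else 0) → M ^ 8 = bev M [true, a, b, c, false, c, b, a] := by
    intro a b c ha hb hc
    have h := hM
    rw [hexp] at h
    simp only [map_add, map_mul, map_pow, aeval_X, aeval_C, h0, h8, h4, ← s1, ← s2, ← s3, ha, hb, hc,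
      map_one, map_zero, one_mul, zero_mul, add_zero] at h
    rw [← sub_eq_zero, bev_eight]
    have hneg : ∀ x y : Matrix n n K, x - y = x + y := fun x y => by
      rw [sub_eq_add_neg, neg_eq_of_add_eq_zero_left (h2m y)]
    rw [hneg]
    cases a <;> cases b <;> cases c <;>
      simp only [Bool.false_eq_true, if_false, if_true, map_one, map_zero, one_mul, zero_mul, add_zero] at h ⊢ <;>
      (rw [← h]; abel)
  have hroot : ∀ h : K[X], f = (X - C 1) ^ 2 * h → h.eval 1 ≠ 0 → f.rootMultiplicity 1 ≤ 2 := by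
    intro h e he
    rw [Polynomial.rootMultiplicity_le_iff (Matrix.charpoly_monic M).ne_zero, ← hf, e, pow_succ]
    intro hd
    exact he (Polynomial.dvd_iff_isRoot.1
      ((mul_dvd_mul_iff_left (pow_ne_zero 2 (Polynomial.X_sub_C_ne_zero 1))).1 hd))
  have hbool : ∀ i, ∃ a : Bool, f.coeff i = if a then 1 else 0 := fun i => by
    rcases hbit i with h | h
    · exact ⟨false, by simp [h]⟩
    · exact ⟨true, by simp [h]⟩
  obtain ⟨a, ha⟩ := hbool 1
  obtain ⟨b, hb⟩ := hbool 2
  obtain ⟨c, hc⟩ := hbool 3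
  have h8M := key a b c ha hb hc
  have hpow := pow_eq_bev h2m M true a b c false c b a h8M
  have hev1 : ∀ N, biter [true, a, b, c, false, c, b, a] N = biter [true, a, b, c, false, c, b, a] 0 →
      M ^ N = 1 := fun N hN => by
    rw [hpow N, hN, ← hpow 0, pow_zero]
  cases a <;> cases b <;> cases c
  · exact Or.inl (hev1 120 (by decide +kernel))
  · exact Or.inl (hev1 120 (by decide +kernel))
  · exact Or.inl (hev1 120 (by decide +kernel))
  · refine Or.inr (Or.inr ⟨hev1 72 (by decide +kernel), hroot (X ^ 6 + X ^ 3 + 1) ?_ ?_, ?_⟩)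
    · rw [hexp, h0, h8, h4, ← s1, ← s2, ← s3, ha, hb, hc]
      simp only [Bool.false_eq_true, if_false, if_true, map_one, map_zero]
      linear_combination (X ^ 7 + X ^ 4 + X : K[X]) * h2p
    · simp only [eval_add, eval_pow, eval_X, eval_one, one_pow]
      intro e
      exact one_ne_zero (α := K) (by linear_combination e - (CharTwo.two_eq_zero (R := K)))
    · have e : (M - 1) ^ 2 = M ^ 2 + 1 := by
        have hc1 : Commute M (1 : Matrix n n K) := Commute.one_right M
        rw [sq, sub_mul, mul_sub, mul_sub, mul_one, one_mul, one_mul, ← sq]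
        have := h2m M
        rw [show M ^ 2 - M - (M - 1) = M ^ 2 + 1 - (M + M) by abel, this, sub_zero]
      rw [e, add_mul, mul_add, mul_add, one_mul, ← pow_add, ← pow_add, mul_one, h8M, bev_eight]
      simp only [Bool.false_eq_true, if_false, if_true, add_zero]
      norm_num
      abel_nf
      have h2 : (2 : Matrix n n K) = 0 := by rw [← one_add_one_eq_two]; exact h2m 1
      simp [h2]
  · refine Or.inr (Or.inl ⟨hev1 56 (by decide +kernel),
      hroot (X ^ 6 + X ^ 5 + X ^ 4 + X ^ 3 + X ^ 2 + X + 1) ?_ ?_⟩)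
    · rw [hexp, h0, h8, h4, ← s1, ← s2, ← s3, ha, hb, hc]
      simp only [Bool.false_eq_true, if_false, if_true, map_one, map_zero]
      linear_combination (norm := ring_nf) (-X ^ 6 : K[X]) * h2p * 0
      simp [CharTwo.two_eq_zero]
    · simp only [eval_add, eval_pow, eval_X, eval_one, one_pow]
      intro e
      exact one_ne_zero (α := K) (by linear_combination e - 3 * (CharTwo.two_eq_zero (R := K)))
  · exact Or.inl (hev1 120 (by decide +kernel))
  · exact Or.inl (hev1 120 (by decide +kernel))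
  · exact Or.inl (hev1 120 (by decide +kernel))

end Cases

end CfsgLib.Recog.Spec3D4
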