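import Cfsg.Agent.Lib.Recog.Spec3D4.Hom
import Cfsg.Agent.Lib.Recog.Spec3D4.Poly
import Cfsg.Agent.Lib.Recog.Spec3D4.Norm
import Cfsg.Agent.S1067

/-! Which elements of `³D₄(2)` have a non-zero norm on the eight-dimensional module. -/

set_option autoImplicit false
set_option maxHeartbeats 1000000

namespace CfsgLib.Recog.Spec3D4

open Matrix QuadraticMap CfsgLib.Geometry CfsgLib.Geometry.Oct Cfsg.Lie Module

variable {K : Type*} [Field K] [CharP K 2]

theorem pw_two_add (y z : V K) : pw 2 (y + z) = pw 2 y + pw 2 z := by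
  funext i; simp [pw, CharTwo.add_sq]

theorem pw_four_add (y z : V K) : pw 4 (y + z) = pw 4 y + pw 4 z := by
  simp only [pw_four, pw_two_add]

theorem pw_smul (k : ℕ) (c : K) (y : V K) : pw k (c • y) = c ^ k • pw k y := by
  funext i; simp [pw, mul_pow]

theorem B_add (x y z : V K) : B x (y + z) = B x y + B x z := by
  simp only [B, pw_four_add, tmul_add]

theorem add_B (x y z : V K) : B (x + y) z = B x z + B y z := by
  simp only [B, pw_two_add, add_tmul]

theorem B_smul (c : K) (x y : V K) : B x (c • y) = c ^ 4 • B x y := by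
  simp only [B, pw_smul, tmul_smul]

theorem smul_B (c : K) (x y : V K) : B (c • x) y = c ^ 2 • B x y := by
  simp only [B, pw_smul, smul_tmul]

theorem Q_pw_two (v : V K) : Q K (pw 2 v) = Q K v ^ 2 := by
  simp [Q8_apply, pw, CharTwo.add_sq, mul_pow]

theorem Q_B (x y : V K) : Q K (B x y) = Q K x ^ 2 * Q K y ^ 4 := by
  rw [B, Q_tmul, pw_four, Q_pw_two, Q_pw_two, Q_pw_two, ← pow_mul]

/-- Left multiplication by a nonsingular vector is injective. -/
theorem eq_zero_of_B [Fintype K] {x y : V K} (hx : Q K x ≠ 0) (h : B x y = 0) : y = 0 := by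
  have hy : Q K y = 0 := by
    have e := Q_B x y
    rw [h, map_zero] at e
    exact pow_eq_zero_iff (n := 4) (by norm_num) |>.1 ((mul_eq_zero.1 e.symm).resolve_left (pow_ne_zero _ hx))
  refine (evenHyp8 (F := K)).nondeg.1 y fun z => ?_
  show polar (Q K) y z = 0
  have e := Q_B x (y + z)
  rw [B_add, h, zero_add, Q_B] at e
  have e2 := iterateFrobenius_inj K 2 2 (a₁ := Q K (y + z)) (a₂ := Q K z) (by
    simp only [iterateFrobenius_def]; exact (mul_left_cancel₀ (pow_ne_zero _ hx) e).symm)
  rw [polar, e2, hy, sub_zero, sub_self]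

theorem Q_eq_zero_of_B [Fintype K] {x y : V K} (hy : y ≠ 0) (h : B x y = 0) : Q K x = 0 :=
  by_contra fun hx => hy (eq_zero_of_B hx h)

/-- The action as a map into the endomorphisms. -/
noncomputable def actE : ↥(twistedD4 K 2) →* Module.End K (V K) where
  toFun g := (act g).toLinearMap
  map_one' := LinearMap.ext fun v => act_one v
  map_mul' g h := LinearMap.ext fun v => act_mul g h v

theorem actE_injective : Function.Injective (actE (K := K)) := fun g h e =>
  rho_injective (Subtype.ext (LinearEquiv.toLinearMap_injective e))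

theorem polar_act (g : ↥(twistedD4 K 2)) (x y : V K) : polar (Q K) (act g x) (act g y) = polar (Q K) x y := by
  simp only [polar, ← map_add, act_Q]

theorem two_zero (v : V K) : v + v = 0 := by
  funext i; simp [CharTwo.add_self_eq_zero]

theorem end_two_zero (f : Module.End K (V K)) : f + f = 0 := LinearMap.ext fun v => two_zero (f v)

/-- The fixed space. -/
noncomputable def fixE (g : ↥(twistedD4 K 2)) : Submodule K (V K) := LinearMap.ker (actE g - 1)

theorem mem_fixE {g : ↥(twistedD4 K 2)} {v : V K} : v ∈ fixE g ↔ act g v = v := by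
  rw [fixE, LinearMap.mem_ker, LinearMap.sub_apply, Module.End.one_apply, sub_eq_zero]; rfl

theorem range_eq_movSpace (g : ↥(twistedD4 K 2)) : LinearMap.range (actE g - 1) = movSpace (act g) := by
  rw [movSpace, ← LinearMap.range_neg]
  congr 1
  ext v
  simp [actE]

theorem finrank_V : finrank K (V K) = 8 := by simp

/-- The moved space has even dimension. -/
theorem even_fixE [Fintype K] (hK : Fintype.card K = 8) (g : ↥(twistedD4 K 2)) : Even (finrank K (fixE g)) := by
  have h := LinearMap.finrank_range_add_finrank_ker (actE g - 1)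
  rw [range_eq_movSpace, finrank_V, ← fixE] at h
  obtain ⟨k, hk⟩ := act_parity hK g
  exact ⟨4 - k, by omega⟩

variable {s : ↥(twistedD4 K 2)} {m : ℕ}

/-- The projection onto the fixed space. -/
noncomputable def prj (s : ↥(twistedD4 K 2)) (m : ℕ) : Module.End K (V K) := nrm (actE s) m

theorem prj_mem (hs : s ^ m = 1) (v : V K) : prj s m v ∈ fixE s := by
  refine mem_fixE.2 ?_
  exact LinearMap.congr_fun (mul_nrm_of_pow_eq_one (s := actE s) (m := m) (by rw [← map_pow, hs, map_one])) v

theorem prj_of_mem (hm : Odd m) {v : V K} (hv : v ∈ fixE s) : prj s m v = v := by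
  have h : ∀ i : ℕ, (actE s ^ i) v = v := fun i => by
    induction i with
    | zero => simp
    | succ i ih => rw [pow_succ, Module.End.mul_apply, show actE s v = v from mem_fixE.1 hv, ih]
  rw [prj, nrm, LinearMap.sum_apply, Finset.sum_congr rfl fun i _ => h i, Finset.sum_const, Finset.card_range]
  obtain ⟨k, rfl⟩ := hm
  rw [add_smul, one_smul, mul_smul, two_nsmul, two_zero, zero_add]

theorem polar_prj (hm : Odd m) {f : V K} (hf : f ∈ fixE s) (z : V K) :
    polar (Q K) f (prj s m z) = polar (Q K) f z := by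
  have h : ∀ i : ℕ, polarBilin (Q K) f ((actE s ^ i) z) = polarBilin (Q K) f z := fun i => by
    induction i with
    | zero => simp
    | succ i ih =>
      rw [pow_succ', Module.End.mul_apply]
      have e := polar_act s f ((actE s ^ i) z)
      rw [mem_fixE.1 hf] at e
      exact e.trans ih
  show polarBilin (Q K) f (prj s m z) = polarBilin (Q K) f z
  rw [prj, nrm, LinearMap.sum_apply, map_sum, Finset.sum_congr rfl fun i _ => h i, Finset.sum_const,
    Finset.card_range]
  obtain ⟨k, rfl⟩ := hm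
  rw [add_smul, one_smul, mul_smul, two_nsmul, CharTwo.add_self_eq_zero, zero_add]

theorem exists_nonsingular [Fintype K] (hs : s ^ m = 1) (hm : Odd m) (hF : fixE s ≠ ⊥) :
    ∃ x ∈ fixE s, Q K x ≠ 0 := by
  obtain ⟨f, hf, hf0⟩ := Submodule.exists_mem_ne_zero_of_ne_bot hF
  by_contra! hall
  refine hf0 ((evenHyp8 (F := K)).nondeg.1 f fun z => ?_)
  show polar (Q K) f z = 0
  rw [← polar_prj hm hf z, polar, hall _ (add_mem hf (prj_mem hs z)), hall _ hf, hall _ (prj_mem hs z)]
  simp

theorem pw_four_two [Fintype K] (hK : Fintype.card K = 8) (z : V K) : pw 4 (pw 2 z) = z := by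
  funext i
  show (z i ^ 2) ^ 4 = z i
  rw [← pow_mul]
  have := FiniteField.pow_card (z i)
  rw [hK] at this
  simpa using this

/-- The possible orders of elements of odd order with a fixed vector. -/
theorem odd_cases [Fintype K] (hK : Fintype.card K = 8) (hso : orderOf s = m) (hm : Odd m)
    (hF : fixE s ≠ ⊥) : m = 1 ∨ m = 3 ∨ ((m = 7 ∨ m = 9) ∧ finrank K (fixE s) ≤ 2) := by
  have hs : s ^ m = 1 := hso ▸ pow_orderOf_eq_one s
  obtain ⟨x, hxF, hx⟩ := exists_nonsingular hs hm hF
  let f : (V K) →+ V K := AddMonoidHom.mk' (B x) (B_add x)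
  set S : Module.End K (V K) := actE s with hS'
  set Mx : Matrix (Fin 4 ⊕ Fin 4) (Fin 4 ⊕ Fin 4) K := LinearMap.toMatrixAlgEquiv' S with hMx
  have hMv : ∀ v, Mx *ᵥ v = S v := fun v => LinearMap.toMatrix'_mulVec S v
  set P : Matrix (Fin 4 ⊕ Fin 4) (Fin 4 ⊕ Fin 4) K := Matrix.of fun i j => B x (Pi.single j 1) i with hPdef
  have hPv : ∀ y, P *ᵥ pw 4 y = B x y := fun y => by
    conv_rhs => rw [pi_eq_sum_univ' y]
    rw [show B x (∑ j, y j • Pi.single j 1) = ∑ j, f (y j • Pi.single j 1) from map_sum f _ _]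
    funext i
    simp [f, P, Matrix.mulVec, dotProduct, B_smul, pw, mul_comm]
  have hPu : IsUnit P := by
    rw [← Matrix.mulVec_injective_iff_isUnit]
    intro a b e
    rw [← pw_four_two hK a, ← pw_four_two hK b, hPv, hPv, ← sub_eq_zero] at e
    have e2 : f (pw 2 a - pw 2 b) = 0 := by rw [map_sub]; exact e
    have e3 := eq_zero_of_B hx e2
    rw [← pw_four_two hK a, ← pw_four_two hK b, sub_eq_zero.1 e3]
  have hcomm : P * Mx.map (fun c => c ^ 4) = Mx * P := by
    ext i j
    have e1 : (P * Mx.map fun c => c ^ 4) i j = (P *ᵥ pw 4 (S (Pi.single j 1))) i := by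
      simp only [Matrix.mul_apply, Matrix.mulVec, dotProduct, Matrix.map_apply, pw]
      refine Finset.sum_congr rfl fun k _ => ?_
      rw [← hMv, Matrix.mulVec_single_one]
      rfl
    have e2 : (Mx * P) i j = (Mx *ᵥ B x (Pi.single j 1)) i := by
      simp [Matrix.mul_apply, Matrix.mulVec, dotProduct, P]
    rw [e1, e2, hPv, hMv]
    have h := act_B hK s x (Pi.single j 1)
    rw [mem_fixE.1 hxF] at h
    exact congrFun h i
  set J := LinearMap.BilinForm.toMatrix' (polarBilin (Q K)) with hJdef
  have hJ : IsUnit J := by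
    rw [Matrix.isUnit_iff_isUnit_det, isUnit_iff_ne_zero, hJdef]
    exact (LinearMap.BilinForm.nondegenerate_iff_det_ne_zero (Pi.basisFun K (Fin 4 ⊕ Fin 4))).1
      (evenHyp8 (F := K)).nondeg
  have hisom : Mxᵀ * J * Mx = J := by
    have e : LinearMap.BilinForm.comp (polarBilin (Q K)) S S = polarBilin (Q K) :=
      LinearMap.ext₂ fun u v => polar_act s u v
    conv_rhs => rw [hJdef, ← e, LinearMap.BilinForm.toMatrix'_comp]
    rfl
  have h1 : Mx.charpoly.IsRoot 1 := by
    rw [Polynomial.IsRoot, Matrix.eval_charpoly, ← Matrix.exists_mulVec_eq_zero_iff]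
    obtain ⟨v, hv, hv0⟩ := Submodule.exists_mem_ne_zero_of_ne_bot hF
    exact ⟨v, hv0, by rw [Matrix.sub_mulVec, hMv, map_one, Matrix.one_mulVec,
      show S v = v from mem_fixE.1 hv, sub_self]⟩
  have hd : finrank K (fixE s) ≤ Mx.charpoly.rootMultiplicity 1 := by
    have h := LinearMap.finrank_eigenspace_le S 1
    rw [← LinearMap.charpoly_toMatrix S (Pi.basisFun K (Fin 4 ⊕ Fin 4))] at h
    refine le_trans (le_of_eq ?_) (h.trans (le_of_eq ?_))
    · rw [fixE, Module.End.eigenspace_def, one_smul]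
    · rfl
  have hpow : ∀ k, Mx ^ k = 1 → m ∣ k := fun k hk => by
    rw [← hso]
    refine orderOf_dvd_of_pow_eq_one (actE_injective ?_)
    rw [map_pow, map_one]
    exact (LinearMap.toMatrixAlgEquiv' (R := K) (n := Fin 4 ⊕ Fin 4)).injective (by rw [map_pow, map_one]; exact hk)
  have hcard : m ∣ 2 ^ 12 * (2 ^ 2 - 1) * (2 ^ 6 - 1) * (2 ^ 8 + 2 ^ 4 + 1) := by
    rw [← hso, ← Cfsg.Agent.S1067.result (q := 2) Nat.prime_two.isPrimePow (by rw [hK]; norm_num)]
    exact orderOf_dvd_natCard s
  obtain ⟨k, hk⟩ := hm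
  rcases charpoly_cases hK (by simp) hPu hcomm hJ hisom h1 with h | ⟨h, h2⟩ | ⟨h, h2, -⟩
  · have h' := Nat.dvd_gcd (hpow _ h) hcard
    norm_num at h'
    have hle := Nat.le_of_dvd (by norm_num) h'
    interval_cases m <;> omega
  · have h' := Nat.dvd_gcd (hpow _ h) hcard
    norm_num at h'
    have hle := Nat.le_of_dvd (by norm_num) h'
    interval_cases m <;> omega
  · have h' := Nat.dvd_gcd (hpow _ h) hcard
    norm_num at h'
    have hle := Nat.le_of_dvd (by norm_num) h'
    interval_cases m <;> omega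

/-- Six is not the dimension of a fixed space of an element of odd order. -/
theorem fixE_ne_six [Fintype K] (hK : Fintype.card K = 8) (hs : s ^ m = 1) (hm : Odd m) :
    finrank K (fixE s) ≠ 6 := by
  intro h6
  have hpm : prj s m * prj s m = prj s m :=
    nrm_mul_self (by rw [← map_pow, hs, map_one]) hm end_two_zero
  set M := LinearMap.ker (prj s m) with hMdef
  have hrange : LinearMap.range (prj s m) = fixE s :=
    le_antisymm (by rintro _ ⟨v, rfl⟩; exact prj_mem hs v) fun v hv => ⟨v, prj_of_mem hm hv⟩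
  have hMdim : finrank K M = 2 := by
    have h := LinearMap.finrank_range_add_finrank_ker (prj s m)
    rw [hrange, finrank_V, h6] at h
    rw [hMdef]; omega
  obtain ⟨m0, hm0, hm00⟩ := Submodule.exists_mem_ne_zero_of_ne_bot (p := M) (fun e => by
    rw [e, finrank_bot] at hMdim; omega)
  have hsw : ∀ f ∈ fixE s, ∀ y, act s (B f y) = B f (act s y) := fun f hf y => by
    have h := act_B hK s f y
    rw [mem_fixE.1 hf] at h
    exact h.symm
  have hBM : ∀ f ∈ fixE s, B f m0 ∈ M := fun f hf => by
    have hi : ∀ i : ℕ, (actE s ^ i) (B f m0) = B f ((actE s ^ i) m0) := fun i => by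
      induction i with
      | zero => simp
      | succ i ih => rw [pow_succ', Module.End.mul_apply, Module.End.mul_apply, ih]; exact hsw f hf _
    let φ : V K →+ V K := AddMonoidHom.mk' (B f) (B_add f)
    show prj s m (B f m0) = 0
    rw [prj, nrm, LinearMap.sum_apply, Finset.sum_congr rfl fun i _ => hi i]
    show ∑ i ∈ Finset.range m, φ ((actE s ^ i) m0) = 0
    rw [← map_sum, ← LinearMap.sum_apply]
    show φ (prj s m m0) = 0
    rw [show prj s m m0 = 0 from hm0, map_zero]
  let T : Submodule K (V K) :=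
    { carrier := {f | f ∈ fixE s ∧ B f m0 = 0}
      zero_mem' := ⟨zero_mem _, by simpa using smul_B (0 : K) (0 : V K) m0⟩
      add_mem' := fun {a b} ha hb => ⟨add_mem ha.1 hb.1, by rw [add_B, ha.2, hb.2, add_zero]⟩
      smul_mem' := fun c {a} ha => ⟨Submodule.smul_mem _ c ha.1, by rw [smul_B, ha.2, smul_zero]⟩ }
  have hT4 : 4 ≤ finrank K T := by
    let φ : ↥(fixE s) →+ ↥M := AddMonoidHom.mk' (fun f => ⟨B f m0, hBM f f.2⟩) fun a b =>
      Subtype.ext (add_B _ _ _)
    haveI : Finite (V K) := inferInstance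
    have h1 : Nat.card φ.ker ≤ Nat.card T := Nat.card_le_card_of_injective
      (fun f => ⟨((f : ↥(fixE s)) : V K), (f : ↥(fixE s)).2, congrArg Subtype.val (AddMonoidHom.mem_ker.1 f.2)⟩)
      fun a b e => Subtype.ext (Subtype.ext (congrArg (fun t : T => (t : V K)) e))
    have h2 : Nat.card φ.range ≤ Nat.card ↥M :=
      Nat.card_le_card_of_injective Subtype.val Subtype.val_injective
    have h3 := φ.ker.card_mul_index
    rw [AddSubgroup.index_ker] at h3
    have h4 : Nat.card ↥(fixE s) ≤ Nat.card T * Nat.card ↥M := h3 ▸ Nat.mul_le_mul h1 h2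
    rw [Module.natCard_eq_pow_finrank (K := K), Module.natCard_eq_pow_finrank (K := K) (V := T),
      Module.natCard_eq_pow_finrank (K := K) (V := ↥M), h6, hMdim, Nat.card_eq_fintype_card, hK, ← pow_add] at h4
    have := (Nat.pow_le_pow_iff_right (by norm_num : 1 < 8)).1 h4
    omega
  have hinf : T ⊓ M = ⊥ := by
    rw [Submodule.eq_bot_iff]
    rintro v ⟨hv, hv'⟩
    rw [← prj_of_mem hm hv.1]
    exact hv'
  have hsup := Submodule.finrank_sup_add_finrank_inf_eq T M
  rw [hinf, finrank_bot, add_zero, hMdim] at hsup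
  have horth : T ⊔ M ≤ LinearMap.BilinForm.orthogonal (polarBilin (Q K)) T := by
    refine sup_le (fun a ha b hb => ?_) fun a ha b hb => ?_
    · show polar (Q K) b a = 0
      rw [polar, Q_eq_zero_of_B hm00 (T.add_mem hb ha).2, Q_eq_zero_of_B hm00 ha.2, Q_eq_zero_of_B hm00 hb.2]
      simp
    · show polar (Q K) b a = 0
      rw [← polar_prj hm hb.1 a, show prj s m a = 0 from ha]
      simp
  have hle := Submodule.finrank_mono horth
  rw [LinearMap.BilinForm.finrank_orthogonal (evenHyp8 (F := K)).nondeg, finrank_V] at hle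
  generalize hA : finrank K ↥(T ⊔ M) = a at *
  generalize hB : finrank K ↥T = b at *
  omega

/-- The orders of elements with non-zero norm. -/
theorem norm_orders [Fintype K] (hK : Fintype.card K = 8) (g : ↥(twistedD4 K 2))
    (hg : nrm (actE g) (orderOf g) ≠ 0) : 2 * orderOf g ∈ ({2, 4, 6, 8, 12, 14, 18} : Finset ℕ) := by
  have hn : orderOf g ≠ 0 := (orderOf_pos g).ne'
  obtain ⟨a, m, hm, hnm⟩ := Nat.exists_eq_two_pow_mul_odd hn
  set A := 2 ^ a with hA
  have hA1 : 1 ≤ A := Nat.one_le_two_pow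
  set s := g ^ A with hsdef
  have hso : orderOf s = m := by
    rw [hsdef, orderOf_pow_of_dvd (by omega) (hnm ▸ dvd_mul_right _ _), hnm, Nat.mul_div_cancel_left _ hA1]
  have hs : s ^ m = 1 := hso ▸ pow_orderOf_eq_one s
  set X := actE g - 1 with hX
  have hXA : X ^ A = actE s - 1 := by
    rw [hsdef, map_pow, hX, hA]; exact sub_one_pow_two_pow end_two_zero (actE g) a
  rw [hnm, nrm_mul, hA, nrm_two_pow end_two_zero, ← hA, ← hX, ← map_pow, ← hsdef] at hg
  obtain ⟨v, hv⟩ : ∃ v, (X ^ (A - 1) * nrm (actE s) m) v ≠ 0 := by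
    by_contra! h
    exact hg (LinearMap.ext h)
  rw [Module.End.mul_apply] at hv
  have hvF : prj s m v ∈ fixE s := prj_mem hs v
  have hXA0 : ∀ u, (X ^ A) u = 0 ↔ u ∈ fixE s := fun u => by rw [hXA, fixE, LinearMap.mem_ker]
  have hinv : ∀ u ∈ fixE s, X u ∈ fixE s := fun u hu => by
    rw [← hXA0] at hu ⊢
    rw [← Module.End.mul_apply, ← pow_succ, pow_succ', Module.End.mul_apply, hu, map_zero]
  obtain ⟨hle, heq⟩ := nilpotent_rank hA1 hinv hvF (fun u hu => (hXA0 u).2 hu) hv
  have hker : LinearMap.ker X ≤ fixE s := fun u hu => by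
    rw [← hXA0, show A = A - 1 + 1 by omega, pow_succ, Module.End.mul_apply, LinearMap.mem_ker.1 hu, map_zero]
  have hne : finrank K (fixE s) ≠ A := fun e => by
    have h1 := LinearMap.finrank_range_add_finrank_ker (X.domRestrict (fixE s))
    rw [LinearMap.range_domRestrict, heq e, LinearMap.ker_domRestrict,
      (Submodule.comapSubtypeEquivOfLe hker).finrank_eq, e] at h1
    have h2 := LinearMap.finrank_range_add_finrank_ker X
    rw [finrank_V, hX, range_eq_movSpace] at h2
    obtain ⟨k, hk⟩ := act_parity hK g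
    rw [hX] at h1
    omega
  have hF : fixE s ≠ ⊥ := fun e => by rw [e, finrank_bot] at hle; omega
  have h8 : finrank K (fixE s) ≤ 8 := finrank_V (K := K) ▸ Submodule.finrank_le _
  have heven := even_fixE hK s
  obtain ⟨j, hj⟩ := heven
  have hA' : A = 1 ∨ A = 2 ∨ A = 4 ∨ 8 ≤ A := by
    rcases a with _ | _ | _ | a
    · exact Or.inl hA
    · exact Or.inr (Or.inl hA)
    · exact Or.inr (Or.inr (Or.inl hA))
    · refine Or.inr (Or.inr (Or.inr ?_))
      rw [hA, show (8 : ℕ) = 2 ^ 3 by norm_num]
      exact Nat.pow_le_pow_right (by norm_num) (by omega)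
  rw [hnm]
  rcases odd_cases hK hso hm hF with h | h | ⟨h, hd⟩
  · subst h
    rcases hA' with h | h | h | h <;> first | omega | simp [h]
  · subst h
    have h7 : finrank K (fixE s) ≠ 8 := fun e => by
      have htop : fixE s = ⊤ := Submodule.eq_top_of_finrank_eq (e.trans finrank_V.symm)
      have : s = 1 := actE_injective (LinearMap.ext fun u => by
        rw [map_one]; exact mem_fixE.1 (htop ▸ Submodule.mem_top))
      rw [this, orderOf_one] at hso
      omega
    have h6 := fixE_ne_six hK hs hm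
    rcases hA' with h | h | h | h <;> first | omega | simp [h]
  · have : A = 1 := by omega
    rcases h with h | h <;> simp [h, this]

end CfsgLib.Recog.Spec3D4
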