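import Cfsg.Agent.Lib.Geometry.Triality

/-! A composition product on the eight-dimensional space that is invariant under triality. -/

set_option autoImplicit false
set_option maxHeartbeats 2000000

namespace CfsgLib.Recog.Spec3D4

open Matrix QuadraticMap CfsgLib.Geometry CfsgLib.Geometry.Oct

variable {F : Type*} [Field F]

/-- The bilinear product. -/
def tmul (a b : V F) : V F :=
  Sum.elim
    ![-a (.inl 0) * b (.inr 3) - a (.inl 1) * b (.inl 2) + a (.inl 2) * b (.inl 1) + a (.inl 3) * b (.inl 0),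
      -a (.inl 0) * b (.inr 2) + a (.inl 1) * b (.inl 3) + a (.inr 2) * b (.inl 0) - a (.inr 3) * b (.inl 1),
      a (.inl 0) * b (.inr 1) + a (.inl 2) * b (.inl 3) - a (.inr 1) * b (.inl 0) - a (.inr 3) * b (.inl 2),
      a (.inl 1) * b (.inr 1) + a (.inl 2) * b (.inr 2) + a (.inr 0) * b (.inl 0) + a (.inr 3) * b (.inr 3)]
    ![-a (.inr 0) * b (.inl 3) - a (.inr 1) * b (.inr 2) + a (.inr 2) * b (.inr 1) + a (.inr 3) * b (.inr 0),
      a (.inl 2) * b (.inr 0) - a (.inl 3) * b (.inr 1) - a (.inr 0) * b (.inl 2) + a (.inr 1) * b (.inr 3),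
      -a (.inl 1) * b (.inr 0) - a (.inl 3) * b (.inr 2) + a (.inr 0) * b (.inl 1) + a (.inr 2) * b (.inr 3),
      a (.inl 0) * b (.inr 0) + a (.inl 3) * b (.inl 3) + a (.inr 1) * b (.inl 1) + a (.inr 2) * b (.inl 2)]

theorem Q_tmul (a b : V F) : Q F (tmul a b) = Q F a * Q F b := by
  simp only [Q8_apply, tmul, Sum.elim_inl, Sum.elim_inr, Matrix.cons_val]
  ring

theorem tmul_add (a b c : V F) : tmul a (b + c) = tmul a b + tmul a c := by
  apply ext8 <;> simp only [tmul, Pi.add_apply, Sum.elim_inl, Sum.elim_inr, Matrix.cons_val] <;> ring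

theorem add_tmul (a b c : V F) : tmul (a + b) c = tmul a c + tmul b c := by
  apply ext8 <;> simp only [tmul, Pi.add_apply, Sum.elim_inl, Sum.elim_inr, Matrix.cons_val] <;> ring

theorem tmul_smul (r : F) (a b : V F) : tmul a (r • b) = r • tmul a b := by
  apply ext8 <;> simp only [tmul, Pi.smul_apply, smul_eq_mul, Sum.elim_inl, Sum.elim_inr, Matrix.cons_val] <;> ring

theorem smul_tmul (r : F) (a b : V F) : tmul (r • a) b = r • tmul a b := by
  apply ext8 <;> simp only [tmul, Pi.smul_apply, smul_eq_mul, Sum.elim_inl, Sum.elim_inr, Matrix.cons_val] <;> ring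

/-- A root element on the eight-dimensional space. -/
def opP2 (s : F) (v : V F) : V F :=
  Sum.elim
    ![v (.inl 0),
      v (.inl 1) + s * v (.inl 2),
      v (.inl 2),
      v (.inl 3)]
    ![v (.inr 0),
      v (.inr 1),
      v (.inr 2) + s * v (.inr 1),
      v (.inr 3)]

/-- A root element on the eight-dimensional space. -/
def opM2 (s : F) (v : V F) : V F :=
  Sum.elim
    ![v (.inl 0),
      v (.inl 1),
      v (.inl 2) + s * v (.inl 1),
      v (.inl 3)]
    ![v (.inr 0),
      v (.inr 1) + s * v (.inr 2),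
      v (.inr 2),
      v (.inr 3)]

/-- A root element on the eight-dimensional space. -/
def opP1 (s t u : F) (v : V F) : V F :=
  Sum.elim
    ![v (.inl 0) + s * v (.inl 1),
      v (.inl 1),
      v (.inl 2) + t * v (.inl 3) + u * t * v (.inr 2) + u * v (.inr 3),
      v (.inl 3) + u * v (.inr 2)]
    ![v (.inr 0),
      v (.inr 1) + s * v (.inr 0),
      v (.inr 2),
      v (.inr 3) + t * v (.inr 2)]

/-- A root element on the eight-dimensional space. -/
def opM1 (s t u : F) (v : V F) : V F :=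
  Sum.elim
    ![v (.inl 0),
      v (.inl 1) + s * v (.inl 0),
      v (.inl 2),
      v (.inl 3) + t * v (.inl 2)]
    ![v (.inr 0) + s * v (.inr 1),
      v (.inr 1),
      v (.inr 2) + u * t * v (.inl 2) + u * v (.inl 3) + t * v (.inr 3),
      v (.inr 3) + u * v (.inl 2)]

section Two

variable [CharP F 2]

theorem tmul_opP2 (s : F) (a b : V F) : tmul (opP2 s a) (opP2 s b) = opP2 s (tmul a b) := by
  apply ext8 <;> simp only [tmul, opP2, Sum.elim_inl, Sum.elim_inr, Matrix.cons_val, CharTwo.neg_eq, CharTwo.sub_eq_add] <;>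
    ring_nf <;> simp [CharTwo.two_eq_zero]

theorem tmul_opM2 (s : F) (a b : V F) : tmul (opM2 s a) (opM2 s b) = opM2 s (tmul a b) := by
  apply ext8 <;> simp only [tmul, opM2, Sum.elim_inl, Sum.elim_inr, Matrix.cons_val, CharTwo.neg_eq, CharTwo.sub_eq_add] <;>
    ring_nf <;> simp [CharTwo.two_eq_zero]

theorem tmul_opP1 (s t u : F) (a b : V F) :
    tmul (opP1 t u s a) (opP1 u s t b) = opP1 s t u (tmul a b) := by
  apply ext8 <;> simp only [tmul, opP1, Sum.elim_inl, Sum.elim_inr, Matrix.cons_val, CharTwo.neg_eq, CharTwo.sub_eq_add] <;>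
    ring_nf <;> simp [CharTwo.two_eq_zero]

theorem tmul_opM1 (s t u : F) (a b : V F) :
    tmul (opM1 t u s a) (opM1 u s t b) = opM1 s t u (tmul a b) := by
  apply ext8 <;> simp only [tmul, opM1, Sum.elim_inl, Sum.elim_inr, Matrix.cons_val, CharTwo.neg_eq, CharTwo.sub_eq_add] <;>
    ring_nf <;> simp [CharTwo.two_eq_zero]

end Two

end CfsgLib.Recog.Spec3D4
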