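import Cfsg.Agent.Lib.Recog.Spec3D4.Prod
import Cfsg.Agent.Lib.ChevIso.Types
import Cfsg.Agent.Lib.Chev.Twist.Fam.D4
import Cfsg.Agent.S1071
import Cfsg.Agent.S1108

/-! The eight-dimensional representation of `³D₄(2)` and its properties. -/

set_option autoImplicit false
set_option maxHeartbeats 1000000
set_option maxRecDepth 100000

namespace CfsgLib.Recog.Spec3D4

open Matrix QuadraticMap CfsgLib.Geometry CfsgLib.Geometry.Oct CfsgLib.ChevIso Cfsg.Lie CfsgLib.Chev

variable {K : Type*} [Field K]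

/-- Coordinatewise powers. -/
def pw (n : ℕ) (v : V K) : V K := fun i => v i ^ n

/-- The semilinear product. -/
def B (x y : V K) : V K := tmul (pw 2 x) (pw 4 y)

/-- The space. -/
theorem hS : Space vD4 (Q K) := spaceD4

set_option synthInstance.maxSize 4000 in
/-- The action of `chevD4.group` on the eight-dimensional space. -/
theorem exists_phi [CharP K 2] : ∃ φ : ↥(chevD4.group K) →* orth (Q K), Function.Injective φ ∧
    ∀ r < chevD4.nroots, ∀ t : K, ∀ h : xG stdD4.good r t ∈ chevD4.group K,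
      φ ⟨xG stdD4.good r t, h⟩ = xV hS r t := by
  obtain ⟨θ, hθ, hθk, hθx⟩ := Cfsg.Agent.S2396.result (K := K) chevD4 (by simp) (by simp [chevD4, chevB2, chevG2])
  set ψ := coverHom (D := chevD4) (F := K) hS stdD4.good mem_idxD4 chkD4
  have hker : θ.ker ≤ ψ.ker := fun z hz => by
    have hc : ∀ r < chevD4.nroots, ∀ v, ((ψ z : orth (Q K)) : V K ≃ₗ[K] V K)
        ((xV hS r (1 : K) : V K ≃ₗ[K] V K) v) =
        (xV hS r (1 : K) : V K ≃ₗ[K] V K) (((ψ z : orth (Q K)) : V K ≃ₗ[K] V K) v) := by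
      intro r hr v
      have h1 := Subgroup.mem_center_iff.1 (hθk hz) (chevD4.scGen K r 1)
      have h2 := congrArg ψ h1
      rw [map_mul, map_mul, coverHom_gen hS stdD4.good mem_idxD4 chkD4 hr] at h2
      exact (LinearEquiv.congr_fun (congrArg Subtype.val h2) v).symm
    rw [MonoidHom.mem_ker]
    set n := ((ψ z : orth (Q K)) : V K ≃ₗ[K] V K) with hn
    have hout : ∀ b i : Fin 4 ⊕ Fin 4, i ≠ b → ∃ r < chevD4.nroots,
        ((vD4.tri r).1 = b ∨ (vD4.tri r).2.1 = b) ∧ (vD4.tri r).1 ≠ i ∧ (vD4.tri r).2.1 ≠ i := by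
      decide +kernel
    have himg : ∀ r < chevD4.nroots, ∀ v, (xV hS r (1 : K) : V K ≃ₗ[K] V K) v = v +
        (((vD4.tri r).2.2 : K) * v (vD4.P (vD4.tri r).1)) • bs K (vD4.tri r).2.1 -
        (((vD4.tri r).2.2 : K) * v (vD4.P (vD4.tri r).2.1)) • bs K (vD4.tri r).1 := by
      intro r _ v
      have hz2 : (Q K) (bs K (vD4.tri r).2.1) = 0 := hS.sing_zero rfl
      simp only [xV]
      rw [siegel_apply, Geometry.map_smul', hz2, polar_smul_right', hS.pol, hS.pol]
      simp only [vD4, mul_one, Int.cast_one, one_mul, mul_zero, zero_mul, zero_smul, sub_zero, smul_smul]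
      congr 2
      rw [mul_comm]
    have hsq : ∀ r : ℕ, ((vD4.tri r).2.2 : K) * ((vD4.tri r).2.2 : K) = 1 := fun r => by
      have : ∀ x ∈ ((.inl 0, .inl 1, (1 : ℤ)) :: triD4), x.2.2 * x.2.2 = 1 := by decide
      rw [← Int.cast_mul]
      exact (congrArg Int.cast (this _ (getD_mem triD4 r _))).trans Int.cast_one
    have hswap : ∀ v : V K, ∀ r < chevD4.nroots,
        ((((vD4.tri r).2.2 : K) * v (vD4.P (vD4.tri r).1)) • n (bs K (vD4.tri r).2.1) -
          (((vD4.tri r).2.2 : K) * v (vD4.P (vD4.tri r).2.1)) • n (bs K (vD4.tri r).1)) =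
        ((((vD4.tri r).2.2 : K) * n v (vD4.P (vD4.tri r).1)) • bs K (vD4.tri r).2.1 -
          (((vD4.tri r).2.2 : K) * n v (vD4.P (vD4.tri r).2.1)) • bs K (vD4.tri r).1) := by
      intro v r hr
      have h := hc r hr v
      rw [himg r hr, himg r hr, map_sub, map_add, map_smul, map_smul, add_sub_assoc, add_sub_assoc] at h
      exact add_left_cancel h
    have hne : ∀ r < chevD4.nroots, (vD4.tri r).2.1 ≠ (vD4.tri r).1 ∧
        vD4.P (vD4.tri r).2.1 ≠ (vD4.tri r).1 := by decide +kernel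
    -- each basis vector is an eigenvector
    have hend : ∀ r < chevD4.nroots, n (bs K (vD4.tri r).2.1) =
          n (bs K (vD4.P (vD4.tri r).1)) (vD4.P (vD4.tri r).1) • bs K (vD4.tri r).2.1 -
          n (bs K (vD4.P (vD4.tri r).1)) (vD4.P (vD4.tri r).2.1) • bs K (vD4.tri r).1 ∧
        n (bs K (vD4.tri r).1) =
          n (bs K (vD4.P (vD4.tri r).2.1)) (vD4.P (vD4.tri r).2.1) • bs K (vD4.tri r).1 -
          n (bs K (vD4.P (vD4.tri r).2.1)) (vD4.P (vD4.tri r).1) • bs K (vD4.tri r).2.1 := by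
      intro r hr
      obtain ⟨hne1, hne2⟩ := hne r hr
      have hP : vD4.P (vD4.tri r).2.1 ≠ vD4.P (vD4.tri r).1 := fun e => hne1 ((hS (K := K)).P_inj.1 e)
      have h1 := hswap (bs K (vD4.P (vD4.tri r).1)) r hr
      have h2 := hswap (bs K (vD4.P (vD4.tri r).2.1)) r hr
      rw [show bs K (vD4.P (vD4.tri r).1) (vD4.P (vD4.tri r).1) = 1 from Pi.single_eq_same _ _,
        show bs K (vD4.P (vD4.tri r).1) (vD4.P (vD4.tri r).2.1) = 0 from Pi.single_eq_of_ne hP _] at h1
      rw [show bs K (vD4.P (vD4.tri r).2.1) (vD4.P (vD4.tri r).2.1) = 1 from Pi.single_eq_same _ _,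
        show bs K (vD4.P (vD4.tri r).2.1) (vD4.P (vD4.tri r).1) = 0 from Pi.single_eq_of_ne hP.symm _] at h2
      have hu : IsUnit ((vD4.tri r).2.2 : K) := IsUnit.of_mul_eq_one _ (hsq r)
      constructor
      · refine hu.smul_left_cancel.1 ?_
        simpa [smul_sub, smul_smul] using h1
      · refine hu.smul_left_cancel.1 ?_
        have h3 := congrArg Neg.neg h2
        simpa [smul_sub, smul_smul] using h3
    have hdiag : ∀ b i, i ≠ b → n (bs K b) i = 0 := by
      intro b i hib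
      obtain ⟨r, hr, hb, h1, h2⟩ := hout b i hib
      obtain ⟨e2, e1⟩ := hend r hr
      rcases hb with rfl | rfl
      · rw [e1]; simp [bs, h1.symm, h2.symm]
      · rw [e2]; simp [bs, h1.symm, h2.symm]
    have hdia : ∀ b, n (bs K b) = n (bs K b) b • bs K b := fun b => by
      funext i
      rcases eq_or_ne i b with rfl | h
      · simp [bs]
      · simp [bs, hdiag b i h, h]
    have hstep : ∀ r < chevD4.nroots,
        n (bs K (vD4.tri r).2.1) (vD4.tri r).2.1 = n (bs K (vD4.P (vD4.tri r).1)) (vD4.P (vD4.tri r).1) ∧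
        n (bs K (vD4.tri r).1) (vD4.tri r).1 = n (bs K (vD4.P (vD4.tri r).2.1)) (vD4.P (vD4.tri r).2.1) := by
      intro r hr
      obtain ⟨e2, e1⟩ := hend r hr
      constructor
      · nth_rw 1 [e2]; simp [bs, (hne r hr).1]
      · nth_rw 1 [e1]; simp [bs, (hne r hr).1.symm]
    have hconn : ∀ b : Fin 4 ⊕ Fin 4, ∀ b' : Fin 4 ⊕ Fin 4, b' ≠ b → b' ≠ vD4.P b →
        ∃ r < chevD4.nroots, ((vD4.tri r).2.1 = b ∧ vD4.P (vD4.tri r).1 = b') ∨
          ((vD4.tri r).1 = b ∧ vD4.P (vD4.tri r).2.1 = b') := by decide +kernel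
    have hpair : ∀ b b', b' ≠ b → b' ≠ vD4.P b → n (bs K b) b = n (bs K b') b' := fun b b' h h' => by
      obtain ⟨r, hr, ⟨rfl, rfl⟩ | ⟨rfl, rfl⟩⟩ := hconn b b' h h'
      · exact (hstep r hr).1
      · exact (hstep r hr).2
    set c := n (bs K (.inl 0)) (.inl 0)
    have hall : ∀ b, n (bs K b) b = c := by
      intro b
      rcases eq_or_ne b (.inl 0) with rfl | h
      · rfl
      rcases eq_or_ne b (vD4.P (.inl 0)) with rfl | h'
      · rw [hpair (vD4.P (.inl 0)) (.inl 1) (by decide) (by decide), ← hpair (.inl 0) (.inl 1) (by decide) (by decide)]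
      · exact (hpair _ b h h').symm
    have hlin : ∀ v, n v = c • v := fun v => by
      have e : (n : V K ≃ₗ[K] V K).toLinearMap = c • LinearMap.id :=
        (Pi.basisFun K _).ext fun b => by
          simp only [Pi.basisFun_apply, LinearMap.smul_apply, LinearMap.id_apply, LinearEquiv.coe_coe]
          show n (bs K b) = c • bs K b
          rw [hdia b, hall b]
      exact LinearMap.congr_fun e v
    have hQ : c * c = 1 := by
      have h := (ψ z).2 (one : V K)
      rw [← hn, hlin, QuadraticMap.map_smul, Q8_one] at h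
      simpa [smul_eq_mul] using h
    have hc1 : c = 1 := by
      have h0 : (c - 1) * (c - 1) = 0 := by
        linear_combination hQ + (1 - c) * (CharTwo.two_eq_zero (R := K))
      exact sub_eq_zero.1 (mul_self_eq_zero.1 h0)
    exact Subtype.ext (LinearEquiv.ext fun v => by rw [← hn, hlin, hc1, one_smul]; rfl)
  let φ := θ.liftOfSurjective hθ ⟨ψ, hker⟩
  have hφ : ∀ z, φ (θ z) = ψ z := fun z => MonoidHom.liftOfRightInverse_comp_apply _ _ _ ⟨ψ, hker⟩ z
  have hgen : ∀ r < chevD4.nroots, ∀ t : K, ∀ h : xG stdD4.good r t ∈ chevD4.group K,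
      φ ⟨xG stdD4.good r t, h⟩ = xV hS r t := fun r hr t h => by
    have e : θ (chevD4.scGen K r t) = ⟨xG stdD4.good r t, h⟩ :=
      Subtype.ext (Units.ext ((hθx r t hr).trans (xG_val stdD4.good r t).symm))
    exact ((congrArg φ e).symm.trans (hφ _)).trans (coverHom_gen hS stdD4.good mem_idxD4 chkD4 hr t)
  refine ⟨φ, ?_, hgen⟩
  have hsimple := (Cfsg.Agent.S1054.result (F := K) chevD4 (by simp)).1
  rcases hsimple.eq_bot_or_eq_top_of_normal φ.ker inferInstance with h | h
  · exact (MonoidHom.ker_eq_bot_iff _).1 h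
  · exfalso
    have h0 : φ (θ (chevD4.scGen K 0 1)) = 1 := MonoidHom.mem_ker.1 (h ▸ Subgroup.mem_top _)
    rw [hφ, coverHom_gen hS stdD4.good mem_idxD4 chkD4 (by decide)] at h0
    exact xV_ne_one (hS (K := K)) (e := rfl) (Or.inr rfl) (by decide) h0

end CfsgLib.Recog.Spec3D4
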