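import Cfsg.Agent.Lib.Recog.Spec3D4.Field8
import Cfsg.Agent.Lib.Recog.Spec3D4.Orders

/-! Elements of `³D₄(2)` of orders 8, 12, 18 and 28. -/

set_option autoImplicit false
set_option maxHeartbeats 1000000
set_option maxRecDepth 100000

namespace CfsgLib.Recog.Spec3D4

open Matrix QuadraticMap CfsgLib.Geometry CfsgLib.Geometry.Oct CfsgLib.ChevIso Cfsg.Lie CfsgLib.Chev

/-- The action of a generator. -/
def gen {F : Type*} [Field F] : Fin 4 × F → V F → V F
  | (0, _) => opP2 1
  | (1, _) => opM2 1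
  | (2, c) => opP1 c (c * c) ((c * c) * (c * c))
  | (_, c) => opM1 c (c * c) ((c * c) * (c * c))

/-- The action of a word. -/
def wfun {F : Type*} [Field F] (w : List (Fin 4 × F)) (v : V F) : V F := w.foldr gen v

variable {K : Type*} [Field K] [CharP K 2]

/-- A generator. -/
noncomputable def genEl : Fin 4 × K → ↥(twistedD4 K 2)
  | (0, _) => ⟨([(d4p2, (1 : K))].map fun p : ℕ × K => xG stdD4.good p.1 p.2).prod,
      word_mem_gen stdD4.good (Or.inl ⟨1, one_pow 2, d4p2, by simp, rfl⟩)⟩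
  | (1, _) => ⟨([(d4m2, (1 : K))].map fun p : ℕ × K => xG stdD4.good p.1 p.2).prod,
      word_mem_gen stdD4.good (Or.inl ⟨1, one_pow 2, d4m2, by simp, rfl⟩)⟩
  | (2, t) => ⟨([(d4p1, t), (d4p3, t ^ 2), (d4p4, t ^ 2 ^ 2)].map fun p : ℕ × K => xG stdD4.good p.1 p.2).prod,
      word_mem_gen stdD4.good (Or.inr ⟨t, (d4p1, d4p3, d4p4), by simp, rfl⟩)⟩
  | (_, t) => ⟨([(d4m1, t), (d4m3, t ^ 2), (d4m4, t ^ 2 ^ 2)].map fun p : ℕ × K => xG stdD4.good p.1 p.2).prod,
      word_mem_gen stdD4.good (Or.inr ⟨t, (d4m1, d4m3, d4m4), by simp, rfl⟩)⟩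

theorem roots_lt : d4p2 < chevD4.nroots ∧ d4m2 < chevD4.nroots ∧ d4p1 < chevD4.nroots ∧ d4p3 < chevD4.nroots ∧
    d4p4 < chevD4.nroots ∧ d4m1 < chevD4.nroots ∧ d4m3 < chevD4.nroots ∧ d4m4 < chevD4.nroots := by
  decide +kernel

theorem act_genEl (p : Fin 4 × K) (v : V K) : act (genEl p) v = gen p v := by
  obtain ⟨h1, h2, h3, h4, h5, h6, h7, h8⟩ := roots_lt
  obtain ⟨k, t⟩ := p
  have e2 : (t ^ 2) = t * t := _root_.sq t
  have e4 : t ^ 2 ^ 2 = (t * t) * (t * t) := by rw [← e2, ← _root_.sq, ← pow_mul]; norm_num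
  fin_cases k
  · show (((rho (genEl (0, t))) : orth (Q K)) : V K ≃ₗ[K] V K) v = opP2 1 v
    rw [genEl, rho_word (Or.inl ⟨1, one_pow 2, d4p2, by simp, rfl⟩) (by simp [h1])]
    simp only [List.map_cons, List.map_nil, List.prod_cons, List.prod_nil, mul_one]
    exact xV_p2 1 v
  · show (((rho (genEl (1, t))) : orth (Q K)) : V K ≃ₗ[K] V K) v = opM2 1 v
    rw [genEl, rho_word (Or.inl ⟨1, one_pow 2, d4m2, by simp, rfl⟩) (by simp [h2])]
    simp only [List.map_cons, List.map_nil, List.prod_cons, List.prod_nil, mul_one]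
    exact xV_m2 1 v
  · show (((rho (genEl (2, t))) : orth (Q K)) : V K ≃ₗ[K] V K) v = opP1 t (t * t) ((t * t) * (t * t)) v
    rw [genEl, rho_word (Or.inr ⟨t, (d4p1, d4p3, d4p4), by simp, rfl⟩) (by simp [h3, h4, h5])]
    simp only [List.map_cons, List.map_nil, List.prod_cons, List.prod_nil, mul_one]
    rw [e4, e2]
    exact xV_p1 t (t * t) ((t * t) * (t * t)) v
  · show (((rho (genEl (3, t))) : orth (Q K)) : V K ≃ₗ[K] V K) v = opM1 t (t * t) ((t * t) * (t * t)) v
    rw [genEl, rho_word (Or.inr ⟨t, (d4m1, d4m3, d4m4), by simp, rfl⟩) (by simp [h6, h7, h8])]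
    simp only [List.map_cons, List.map_nil, List.prod_cons, List.prod_nil, mul_one]
    rw [e4, e2]
    exact xV_m1 t (t * t) ((t * t) * (t * t)) v
    all_goals decide

theorem act_word (w : List (Fin 4 × K)) (v : V K) : act (w.map genEl).prod v = wfun w v := by
  induction w with
  | nil => simp [wfun, act_one]
  | cons p w ih => rw [List.map_cons, List.prod_cons, act_mul, ih, act_genEl]; rfl

theorem act_pow_word (w : List (Fin 4 × K)) (n : ℕ) (v : V K) :
    act ((w.map genEl).prod ^ n) v = (wfun w)^[n] v := by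
  induction n generalizing v with
  | zero => simp [act_one]
  | succ n ih => rw [pow_succ, act_mul, ih, act_word, Function.iterate_succ_apply]

section Map

variable {F : Type*} [Field F] (ι : F →+* K)

/-- The image of a word. -/
def wmap (w : List (Fin 4 × F)) : List (Fin 4 × K) := w.map fun p => (p.1, ι p.2)

omit [CharP K 2] in
theorem gen_map (p : Fin 4 × F) (v : V F) : gen (p.1, ι p.2) (ι ∘ v) = ι ∘ gen p v := by
  obtain ⟨k, t⟩ := p
  fin_cases k <;> apply ext8 <;> simp [gen, opP1, opP2, opM1, opM2]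

omit [CharP K 2] in
theorem wfun_map (w : List (Fin 4 × F)) (v : V F) : wfun (wmap ι w) (ι ∘ v) = ι ∘ wfun w v := by
  induction w with
  | nil => rfl
  | cons p w ih =>
    show gen (p.1, ι p.2) (wfun (wmap ι w) (ι ∘ v)) = ι ∘ gen p (wfun w v)
    rw [ih, gen_map]

omit [CharP K 2] in
theorem iterate_map (w : List (Fin 4 × F)) (n : ℕ) (v : V F) :
    (wfun (wmap ι w))^[n] (ι ∘ v) = ι ∘ (wfun w)^[n] v := by
  induction n generalizing v with
  | zero => rfl
  | succ n ih => rw [Function.iterate_succ_apply, Function.iterate_succ_apply, wfun_map, ih]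

/-- The order of a word, computed over the model field. -/
theorem orderOf_word [Fintype K] (w : List (Fin 4 × F)) (n : ℕ) (hn : 0 < n)
    (h1 : ∀ j, (wfun w)^[n] (Pi.single j 1) = Pi.single j 1)
    (h2 : ∀ m < n, 0 < m → ∃ j, (wfun w)^[m] (Pi.single j 1) ≠ Pi.single j 1) :
    orderOf ((wmap ι w).map genEl).prod = n := by
  have hb : ∀ j, (Pi.single j 1 : V K) = ι ∘ (Pi.single j 1 : V F) := fun j => by
    funext i
    rcases eq_or_ne i j with rfl | h <;> simp [*]
  have key : ∀ k j, act (((wmap ι w).map genEl).prod ^ k) (Pi.single j 1 : V K) =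
      ι ∘ (wfun w)^[k] (Pi.single j 1) := fun k j => by
    rw [act_pow_word, hb, iterate_map]
  rw [orderOf_eq_iff hn]
  refine ⟨actE_injective ?_, fun m hm hm0 e => ?_⟩
  · rw [map_one]
    refine (Pi.basisFun K _).ext fun j => ?_
    rw [Pi.basisFun_apply, Module.End.one_apply]
    show act (((wmap ι w).map genEl).prod ^ n) (Pi.single j 1 : V K) = _
    rw [key, h1, ← hb]
  · obtain ⟨j, hj⟩ := h2 m hm hm0
    have := key m j
    rw [e, act_one, hb] at this
    exact hj (funext fun i => ι.injective (congrFun this i)).symm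

end Map

/-- A code as a field element. -/
def oel (a : Fin 8) : OField := ⟨a⟩

theorem word_checks : ∀ q ∈ ([(8, [(0, oel 1), (2, oel 1)]), (12, [(0, oel 1), (2, oel 1), (3, oel 1)]),
    (18, [(0, oel 1), (2, oel 1), (3, oel 2)]), (28, [(0, oel 1), (2, oel 1), (3, oel 3)])] :
      List (ℕ × List (Fin 4 × OField))),
    (∀ j, (wfun q.2)^[q.1] (Pi.single j 1) = Pi.single j 1) ∧
    (∀ m < q.1, 0 < m → ∃ j, (wfun q.2)^[m] (Pi.single j 1) ≠ Pi.single j 1) := by
  decide +kernel

theorem exists_orders [Fintype K] (hK : Fintype.card K = 8) :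
    ∀ n ∈ ({8, 12, 18, 28} : Finset ℕ), ∃ g : ↥(twistedD4 K 2), orderOf g = n := by
  intro n hn
  let ι : OField →+* K := (FiniteField.ringEquivOfCardEq (OField.card_eq.trans hK.symm)).toRingHom
  have h : ∃ q ∈ ([(8, [(0, oel 1), (2, oel 1)]), (12, [(0, oel 1), (2, oel 1), (3, oel 1)]),
    (18, [(0, oel 1), (2, oel 1), (3, oel 2)]), (28, [(0, oel 1), (2, oel 1), (3, oel 3)])] :
      List (ℕ × List (Fin 4 × OField))), q.1 = n ∧ 0 < n := by
    simp only [Finset.mem_insert, Finset.mem_singleton] at hn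
    rcases hn with rfl | rfl | rfl | rfl <;> simp
  obtain ⟨q, hq, rfl, hpos⟩ := h
  exact ⟨_, orderOf_word ι q.2 q.1 hpos (word_checks q hq).1 (word_checks q hq).2⟩

end CfsgLib.Recog.Spec3D4
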